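import Groth.Agent.Lib.MTExt.PowFinite
import Groth.Agent.Lib.ImgMT.TorusDim
import Groth.Agent.Lib.ImgMT.MaxTorus
import Groth.Agent.H56.DimBaseChange
import Groth.Agent.H87.Loci
import Groth.Agent.Lib.SemiAbIsog.Basic

/-!
# The degree of the power maps of a torus
-/

set_option autoImplicit false
set_option linter.style.haveILetI false
set_option linter.unusedSectionVars false

universe u

open CategoryTheory CategoryTheory.Limits MonoidalCategory CartesianMonoidalCategory MonObj GrpObj AlgebraicGeometry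
open Groth.Agent.Lib.RedPts Groth.Agent.Lib.Tori

namespace Groth.Agent.Lib.TorsDeg6

section Alg

variable {G H : Type} [CommGroup G] [CommGroup H] {R : Type u} [CommRing R]

/-- Cosets give a basis of a group algebra over that of a subgroup. -/
theorem exists_basis (f : H →* G) (hf : Function.Injective f) :
    letI := (MonoidAlgebra.mapDomainRingHom R f).toAlgebra
    Nonempty (Module.Basis (G ⧸ f.range) (MonoidAlgebra R H) (MonoidAlgebra R G)) := by
  classical
  letI := (MonoidAlgebra.mapDomainRingHom R f).toAlgebra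
  let σ : G ⧸ f.range → G := Quotient.out
  have hσ : ∀ q, (QuotientGroup.mk (σ q) : G ⧸ f.range) = q := fun q => Quotient.out_eq q
  let v : G ⧸ f.range → MonoidAlgebra R G := fun q => MonoidAlgebra.single (σ q) 1
  have key : ∀ (c : G ⧸ f.range →₀ MonoidAlgebra R H) (q : G ⧸ f.range) (n : H),
      (Finsupp.linearCombination (MonoidAlgebra R H) v c).coeff (σ q * f n) = (c q).coeff n := by
    intro c q n
    induction c using Finsupp.induction_linear with
    | zero => simp
    | add a b ha hb => simp [ha, hb]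
    | single q' r =>
      rw [Finsupp.linearCombination_single, Algebra.smul_def, RingHom.algebraMap_toAlgebra]
      induction r using MonoidAlgebra.induction_linear with
      | zero => simp
      | add a b ha hb =>
        rw [map_add, _root_.add_mul, MonoidAlgebra.coeff_add, Finsupp.add_apply, ha, hb, Finsupp.single_add,
          Finsupp.add_apply, MonoidAlgebra.coeff_add, Finsupp.add_apply]
      | single n' s =>
        have hiff : f n' * σ q' = σ q * f n ↔ q' = q ∧ n' = n := by
          refine ⟨fun he => ?_, fun ⟨a, b⟩ => by rw [a, b, mul_comm]⟩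
          have hq : q' = q := by
            rw [← hσ q', ← hσ q]
            refine QuotientGroup.eq.mpr ⟨n' / n, ?_⟩
            rw [map_div, div_eq_iff_eq_mul, _root_.mul_assoc, eq_inv_mul_iff_mul_eq, mul_comm (σ q')]
            exact he
          subst hq
          exact ⟨rfl, hf (by rw [mul_comm (f n')] at he; exact mul_left_cancel he)⟩
        simp only [MonoidAlgebra.mapDomainRingHom_apply, MonoidAlgebra.mapDomain_single,
          MonoidAlgebra.single_mul_single, _root_.mul_one, v, MonoidAlgebra.coeff_single, Finsupp.single_apply]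
        simp only [hiff]
        by_cases h : q' = q
        · simp [h, Finsupp.single_apply]
        · simp [h]
  refine ⟨Module.Basis.mk (v := v) ?_ ?_⟩
  · rw [linearIndependent_iff]
    intro c hc
    refine Finsupp.ext fun q => MonoidAlgebra.coeff_injective (Finsupp.ext fun n => ?_)
    rw [← key c q n, hc]
    simp
  · intro x _
    induction x using MonoidAlgebra.induction_linear with
    | zero => simp
    | add a b ha hb => exact add_mem (ha trivial) (hb trivial)
    | single g r =>
      obtain ⟨n, hn⟩ : (σ (QuotientGroup.mk g))⁻¹ * g ∈ f.range := QuotientGroup.eq.mp (hσ _)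
      have : MonoidAlgebra.single g r = MonoidAlgebra.single n r • v (QuotientGroup.mk g) := by
        rw [Algebra.smul_def, RingHom.algebraMap_toAlgebra]
        simp [v, hn, mul_comm _ (σ _)]
      rw [this]
      exact Submodule.smul_mem _ _ (Submodule.subset_span ⟨_, rfl⟩)

/-- A group algebra is flat over that of a subgroup, of rank the index. -/
theorem rank_mapDomain [Nontrivial R] (f : H →* G) (hf : Function.Injective f)
    (hfin : (MonoidAlgebra.mapDomainRingHom R f).Finite) :
    (MonoidAlgebra.mapDomainRingHom R f).Flat ∧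
      ∀ z, (MonoidAlgebra.mapDomainRingHom R f).finrank z = Nat.card (G ⧸ f.range) := by
  obtain ⟨b⟩ := exists_basis (R := R) f hf
  letI := (MonoidAlgebra.mapDomainRingHom R f).toAlgebra
  haveI := Module.Free.of_basis b
  haveI : Module.Finite (MonoidAlgebra R H) (MonoidAlgebra R G) := hfin
  refine ⟨RingHom.flat_algebraMap_iff.mpr inferInstance, fun z => ?_⟩
  haveI : Nontrivial (MonoidAlgebra R H) := inferInstance
  rw [← RingHom.algebraMap_toAlgebra (MonoidAlgebra.mapDomainRingHom R f), RingHom.finrank_algebraMap,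
    Module.rankAtStalk_eq_finrank_of_free, Pi.natCast_apply, Module.finrank_eq_nat_card_basis b]
  rfl

end Alg

theorem overIso_pow {S : Scheme.{u}} {X Y : Over S} [GrpObj X] [GrpObj Y] (e : Grp.mk X ≅ Grp.mk Y) (N : ℕ) :
    (BaseChange.overIso e).hom ≫ (𝟙 Y ^ N : Y ⟶ Y) = (𝟙 X ^ N : X ⟶ X) ≫ (BaseChange.overIso e).hom := by
  rw [MonObj.comp_pow, MonObj.pow_comp, Category.comp_id, Category.id_comp]

/-- `[ℤ^r : N ℤ^r] = N^r`. -/
theorem index_nsmul (r : ℕ) {N : ℕ} (hN : 0 < N) :
    Nat.card (Multiplicative (Fin r → ℤ) ⧸ (AddMonoidHom.toMultiplicative (N • AddMonoidHom.id (Fin r → ℤ))).range) =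
      N ^ r := by
  haveI : NeZero N := ⟨hN.ne'⟩
  let q : Multiplicative (Fin r → ℤ) →* Multiplicative (Fin r → ZMod N) :=
    AddMonoidHom.toMultiplicative (AddMonoidHom.compLeft (Int.castAddHom (ZMod N)) (Fin r))
  have hq : Function.Surjective q := fun y => by
    refine ⟨Multiplicative.ofAdd fun i => ((y.toAdd i).val : ℤ), ?_⟩
    refine Multiplicative.toAdd.injective (funext fun i => ?_)
    simp [q]
  have hk : (AddMonoidHom.toMultiplicative (N • AddMonoidHom.id (Fin r → ℤ))).range = q.ker := by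
    ext m
    rw [MonoidHom.mem_range, MonoidHom.mem_ker]
    constructor
    · rintro ⟨x, rfl⟩
      refine Multiplicative.toAdd.injective (funext fun i => ?_)
      simp [q]
    · intro h
      have hd : ∀ i, (N : ℤ) ∣ m.toAdd i := fun i => by
        rw [← ZMod.intCast_zmod_eq_zero_iff_dvd]
        exact congrFun (congrArg Multiplicative.toAdd h) i
      choose c hc using hd
      refine ⟨Multiplicative.ofAdd c, Multiplicative.toAdd.injective (funext fun i => ?_)⟩
      simp [hc i]
  rw [hk, Nat.card_congr (QuotientGroup.quotientKerEquivOfSurjective q hq).toEquiv,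
    Nat.card_congr Multiplicative.toAdd, Nat.card_eq_fintype_card, Fintype.card_pi, Finset.prod_const,
    ZMod.card, Finset.card_univ, Fintype.card_fin]

set_option backward.isDefEq.respectTransparency false in
/-- The degree of a power map of a split torus. -/
theorem finrank_powN_DS (X : Scheme.{u}) (r : ℕ) {N : ℕ} (hN : 0 < N) (y : (Red.DS X (Fin r → ℤ)).left) :
    (𝟙 (Red.DS X (Fin r → ℤ)) ^ N : Red.DS X (Fin r → ℤ) ⟶ Red.DS X (Fin r → ℤ)).left.finrank y = N ^ r := by
  rw [MTExt.pow_DS]
  let φ : (Fin r → ℤ) →+ (Fin r → ℤ) := N • AddMonoidHom.id _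
  have hφ : Function.Injective φ := fun a b h => nsmul_right_injective hN.ne' (show N • a = N • b by simpa [φ] using h)
  let F : MonoidAlgebra (ULift.{u} ℤ) (Multiplicative (Fin r → ℤ)) →+*
      MonoidAlgebra (ULift.{u} ℤ) (Multiplicative (Fin r → ℤ)) :=
    MonoidAlgebra.mapDomainRingHom _ φ.toMultiplicative
  have hsq := Groth.Agent.H87.Charts.isPullback_map (specULiftZIsTerminal.from X) (Red.diagMap (ULift.{u} ℤ) φ)
  have hfin : F.Finite := MTExt.finite_mapDomain (Fin r → ℤ) (ULift.{u} ℤ) hN
  obtain ⟨hflat, hrank⟩ := rank_mapDomain (R := ULift.{u} ℤ) φ.toMultiplicative hφ hfin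
  haveI : IsFinite (Red.diagMap (ULift.{u} ℤ) φ).left := (IsFinite.SpecMap_iff (CommRingCat.ofHom F)).mpr hfin
  haveI : Flat (Red.diagMap (ULift.{u} ℤ) φ).left := (Flat.SpecMap_iff (f := CommRingCat.ofHom F)).mpr hflat
  refine (Scheme.Hom.finrank_of_isPullback _ _ _ _ hsq y).trans ?_
  refine (congrFun (Scheme.Hom.finrank_SpecMap_eq_finrank (f := CommRingCat.ofHom F) hfin hflat) _).trans ?_
  exact (hrank _).trans (index_nsmul r hN)

theorem flat_pow_DS (X : Scheme.{u}) (r : ℕ) {N : ℕ} (hN : 0 < N) :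
    Flat (𝟙 (Red.DS X (Fin r → ℤ)) ^ N : Red.DS X (Fin r → ℤ) ⟶ Red.DS X (Fin r → ℤ)).left := by
  have h := Groth.Agent.H87.Loci.ff_DSmap X (φ := N • AddMonoidHom.id (Fin r → ℤ))
    fun a b h => nsmul_right_injective hN.ne' (show N • a = N • b by simpa using h)
  rw [MTExt.pow_DS]
  exact h.1


/-- The degree of a power map of a torus split by a field extension. -/
theorem finrank_powN_of_split {k K : Type u} [Field k] [Field K] {T : Over (Spec (CommRingCat.of k))} [GrpObj T]
    [LocallyOfFiniteType T.hom] {N : ℕ} [IsFinite (𝟙 T ^ N : T ⟶ T).left] [Flat (𝟙 T ^ N : T ⟶ T).left]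
    (c : Spec (CommRingCat.of K) ⟶ Spec (CommRingCat.of k)) {r : ℕ} (hsp : Red.IsSplitTorusWith (Fin r → ℤ) (Red.bc c T))
    {t : ℕ} (ht : topologicalKrullDim ↥T.left = t) (hN : 0 < N) (y : T.left) :
    (𝟙 T ^ N : T ⟶ T).left.finrank y = N ^ t := by
  have hrt : r = t := by
    have h1 := ImgMT.TorusDim.topologicalKrullDim_split hsp
    have h2 := Groth.Agent.H56.DimBaseChange.topologicalKrullDim_baseChange c T.hom _ _
      (IsPullback.of_hasPullback T.hom c)
    have h3 : (r : WithBot ℕ∞) = t := h1.symm.trans (h2.trans ht)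
    exact_mod_cast h3
  obtain ⟨e⟩ := hsp
  let E : Red.bc c T ≅ Red.DS (Spec (CommRingCat.of K)) (Fin r → ℤ) := BaseChange.overIso e
  haveI : IsIso E.hom.left := inferInstanceAs (IsIso ((Over.forget _).map E.hom))
  haveI : Surjective c := ⟨fun x => ⟨IsLocalRing.closedPoint _, Subsingleton.elim _ _⟩⟩
  haveI : Surjective (pullback.fst T.hom c) := MorphismProperty.pullback_fst T.hom c inferInstance
  obtain ⟨y', rfl⟩ := (pullback.fst T.hom c).surjective y
  refine (Scheme.Hom.finrank_of_isPullback _ _ _ _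
    (Groth.Agent.H87.Charts.isPullback_map c (𝟙 T ^ N : T ⟶ T)) y').symm.trans ?_
  have hpow : (Over.pullback c).map (𝟙 T ^ N : T ⟶ T) = (𝟙 (Red.bc c T) ^ N : _ ⟶ _) := by
    have h := map_pow (Functor.homMonoidHom (Over.pullback c) (X := T) (M := T)) (𝟙 T) N
    simpa [Functor.homMonoidHom] using h
  have he : E.hom ≫ (𝟙 (Red.DS (Spec (CommRingCat.of K)) (Fin r → ℤ)) ^ N : _ ⟶ _) =
      (𝟙 (Red.bc c T) ^ N : _ ⟶ _) ≫ E.hom := overIso_pow e N
  have hsq : IsPullback E.hom.left ((Over.pullback c).map (𝟙 T ^ N : T ⟶ T)).left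
      (𝟙 (Red.DS (Spec (CommRingCat.of K)) (Fin r → ℤ)) ^ N : _ ⟶ _).left E.hom.left :=
    IsPullback.of_horiz_isIso ⟨by rw [hpow, ← Over.comp_left, ← Over.comp_left, he]⟩
  haveI : Flat (𝟙 (Red.DS (Spec (CommRingCat.of K)) (Fin r → ℤ)) ^ N : _ ⟶ _).left := flat_pow_DS _ r hN
  haveI : IsFinite (𝟙 (Red.DS (Spec (CommRingCat.of K)) (Fin r → ℤ)) ^ N : _ ⟶ _).left :=
    MTExt.isFinite_pow_DS _ _ hN
  exact (Scheme.Hom.finrank_of_isPullback _ _ _ _ hsq y').trans ((finrank_powN_DS _ r hN _).trans (by rw [hrt]))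

/-- The degree of a power map of a torus over a field. -/
theorem finrank_powN_torus {k : Type u} [Field k] {T : Over (Spec (CommRingCat.of k))} [GrpObj T]
    (hT : Red.IsTorus T) {t : ℕ} (ht : topologicalKrullDim ↥T.left = t) {N : ℕ} (hN : 0 < N) (y : T.left) :
    (𝟙 T ^ N : T ⟶ T).left.finrank y = N ^ t := by
  haveI := Basic.smooth_of_isTorus hT
  haveI : IsFinite (𝟙 T ^ N : T ⟶ T).left :=
    MTExt.isFinite_pow (SemiAbIsog.Basic.isMultTypeFT_of_isTorus hT) hN
  haveI : Flat (𝟙 T ^ N : T ⟶ T).left := (ImgMT.isCov_powN_torus hT hN).1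
  obtain ⟨S', f, hf, hs, hc, hloc⟩ := hT
  obtain ⟨s', -⟩ := f.surjective (IsLocalRing.closedPoint k)
  obtain ⟨U, hU, r, hr⟩ := hloc s'
  let x : (U : Scheme.{u}) := ⟨s', hU⟩
  exact finrank_powN_of_split (K := (U : Scheme.{u}).residueField x)
    ((U : Scheme.{u}).fromSpecResidueField x ≫ U.ι ≫ f)
    (Basic.isSplit_congr (BaseChange.bcComp ((U : Scheme.{u}).fromSpecResidueField x) (U.ι ≫ f) T)
      (Basic.isSplit_bc hr _)) ht hN y

end Groth.Agent.Lib.TorsDeg6
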